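import Mathlib
import Cfsg.Agent.H387.NbPsp
import Cfsg.Agent.H7.NBpComp
import Cfsg.Agent.H7.NBpCount
import Cfsg.Agent.H718.NBIH
import Cfsg.Agent.H679.TwoPsl
import Cfsg.Agent.LieClassical.SpFourTwo
import Cfsg.Agent.LieClassical.SympCenter
import Cfsg.Agent.LieClassical.SympCount

/-!
# S5003: `PSp_2m(q)` has a nonprincipal `p`-block, `p` odd (helper679, for helper718)

`SL₂(q)` acts on a hyperbolic plane `⟨e, f⟩` and trivially on its complement (`emb`).
* `p` prime to `q (q² - 1)`: the quotient of two transvections is unipotent or in such an `SL₂(q)`, so of order prime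
  to `p`: `NB.of_unique` (`nb_tv`);
* `p ∣ q² - 1`: an element of order `p` of `SL₂(q)`; its centralizer normalises `Sp_{2m-2}(q)` (`nb_gamma`).
-/

set_option autoImplicit false
set_option linter.unusedSectionVars false

namespace Cfsg.Agent.H679.NB.Psp

open Subgroup Cfsg Cfsg.Agent.H7.NBp Cfsg.Agent.H952.Rc Cfsg.Agent.H387.NbPsp
open Cfsg.Agent.BpCl (Iso mem_Iso exists_coords nonempty_symp)
open Cfsg.Agent.ClassicalGeometry.SympBasic
open Cfsg.Agent.LieClassical.OrthFinite (quotientCenterCongr)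
open Matrix

universe u v

section Main

variable {F : Type u} {V : Type v} [Field F] [AddCommGroup V] [Module F V] {B : LinearMap.BilinForm F V}

/-- a matrix on the plane `⟨e, f⟩` -/
def ef (B : LinearMap.BilinForm F V) (e f : V) (a : Matrix (Fin 2) (Fin 2) F) (v : V) : V :=
  v + ((a 0 0 - 1) * B v f + a 0 1 * B e v) • e + (a 1 0 * B v f + (a 1 1 - 1) * B e v) • f

variable {e f : V}

theorem ef_left (hA : B.IsAlt) (hef : B e f = 1) (a : Matrix (Fin 2) (Fin 2) F) (v : V) :
    B (ef B e f a v) f = a 0 0 * B v f + a 0 1 * B e v := by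
  rw [ef]
  simp only [map_add, map_smul, LinearMap.add_apply, LinearMap.smul_apply, smul_eq_mul, hA f, hef]
  ring

theorem ef_right (hA : B.IsAlt) (hef : B e f = 1) (a : Matrix (Fin 2) (Fin 2) F) (v : V) :
    B e (ef B e f a v) = a 1 0 * B v f + a 1 1 * B e v := by
  rw [ef]
  simp only [map_add, map_smul, smul_eq_mul, hA e, hef]
  ring

theorem ef_mul (hA : B.IsAlt) (hef : B e f = 1) (a b : Matrix (Fin 2) (Fin 2) F) (v : V) :
    ef B e f (a * b) v = ef B e f a (ef B e f b v) := by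
  conv_rhs => rw [ef, ef_left hA hef, ef_right hA hef, ef]
  rw [ef]
  simp only [Matrix.mul_apply, Fin.sum_univ_two]
  module

theorem ef_one (v : V) : ef B e f 1 v = v := by
  rw [ef]
  simp

theorem ef_form (hA : B.IsAlt) (hef : B e f = 1) {a : Matrix (Fin 2) (Fin 2) F} (ha : a.det = 1) (v w : V) :
    B (ef B e f a v) (ef B e f a w) = B v w := by
  rw [Matrix.det_fin_two] at ha
  rw [ef, ef]
  simp only [map_add, map_smul, LinearMap.add_apply, LinearMap.smul_apply, smul_eq_mul, hA e, hA f, hef]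
  rw [swap hA f e, hef, swap hA f w, swap hA v e]
  linear_combination (B v f * B e w - B e v * B w f) * ha

/-- `SL₂(F)` on the plane `⟨e, f⟩` -/
def emb (hA : B.IsAlt) (hef : B e f = 1) : SpecialLinearGroup (Fin 2) F →* ↥(Iso (fun u v => B u v)) where
  toFun a := ⟨{
    toFun := ef B e f a.1
    invFun := ef B e f (a⁻¹).1
    map_add' := fun v w => by
      rw [ef, ef, ef]
      simp only [map_add, LinearMap.add_apply]
      module
    map_smul' := fun c v => by
      rw [ef, ef]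
      simp only [map_smul, LinearMap.smul_apply, smul_eq_mul, RingHom.id_apply]
      module
    left_inv := fun v => by
      have h : (a⁻¹).1 * a.1 = 1 := congrArg Subtype.val (inv_mul_cancel a)
      rw [← ef_mul hA hef, h, ef_one]
    right_inv := fun v => by
      have h : a.1 * (a⁻¹).1 = 1 := congrArg Subtype.val (mul_inv_cancel a)
      rw [← ef_mul hA hef, h, ef_one] },
    fun u v => ef_form hA hef a.2 u v⟩
  map_one' := by
    apply Subtype.ext
    apply LinearEquiv.ext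
    intro v
    exact ef_one v
  map_mul' a b := by
    apply Subtype.ext
    apply LinearEquiv.ext
    intro v
    exact ef_mul hA hef a.1 b.1 v

theorem emb_apply (hA : B.IsAlt) (hef : B e f = 1) (a : SpecialLinearGroup (Fin 2) F) (v : V) :
    (emb hA hef a).1 v = v + ((a.1 0 0 - 1) * B v f + a.1 0 1 * B e v) • e +
      (a.1 1 0 * B v f + (a.1 1 1 - 1) * B e v) • f := rfl

/-- the trace of an element of prime order different from the characteristic -/
theorem trace_ne_two [Finite F] {p r : ℕ} [CharP F r] (hp : p.Prime) (hr : r.Prime) (hpr : p ≠ r)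
    {a : SpecialLinearGroup (Fin 2) F} (ha : orderOf a = p) : a.1 0 0 + a.1 1 1 ≠ 2 := by
  intro htr
  have hdet : a.1 0 0 * a.1 1 1 - a.1 0 1 * a.1 1 0 = 1 := by
    have := a.2
    rwa [Matrix.det_fin_two] at this
  have h1 : (a.1 - 1) ^ 2 = 0 := by
    rw [pow_two]
    ext i j
    fin_cases i <;> fin_cases j <;> simp [Matrix.mul_apply, Fin.sum_univ_two, Matrix.sub_apply]
    · linear_combination a.1 0 0 * htr - hdet
    · linear_combination a.1 0 1 * htr
    · linear_combination a.1 1 0 * htr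
    · linear_combination a.1 1 1 * htr - hdet
  have h2 : (a.1 - 1) ^ r = 0 := by
    obtain ⟨k, hk⟩ := Nat.exists_eq_add_of_le hr.two_le
    rw [hk, pow_add, h1, zero_mul]
  have : Fact r.Prime := ⟨hr⟩
  have : CharP (Matrix (Fin 2) (Fin 2) F) r := Matrix.charP r
  have h3 : a.1 ^ r = 1 := by
    have h4 := sub_pow_char_of_commute (p := r) (Commute.one_right a.1)
    rw [h2, one_pow] at h4
    exact (sub_eq_zero.1 h4.symm)
  have h4 : a ^ r = 1 := Subtype.ext ((Matrix.SpecialLinearGroup.coe_pow a r).trans h3)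
  have h5 := orderOf_dvd_of_pow_eq_one h4
  rw [ha] at h5
  exact hpr ((Nat.prime_dvd_prime_iff_eq hp hr).1 h5)

theorem emb_fix (hA : B.IsAlt) (hef : B e f = 1) {a : SpecialLinearGroup (Fin 2) F}
    (ha : a.1 0 0 + a.1 1 1 ≠ 2) (v : V) : (emb hA hef a).1 v = v ↔ B v f = 0 ∧ B e v = 0 := by
  constructor
  · intro h
    have hdet : a.1 0 0 * a.1 1 1 - a.1 0 1 * a.1 1 0 = 1 := by
      have := a.2
      rwa [Matrix.det_fin_two] at this
    have h1 := ef_left hA hef a.1 v
    have h2 := ef_right hA hef a.1 v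
    change ef B e f a.1 v = v at h
    rw [h] at h1 h2
    have h0 : (2 : F) - (a.1 0 0 + a.1 1 1) ≠ 0 := fun h => ha (sub_eq_zero.1 h).symm
    have h3 : (2 - (a.1 0 0 + a.1 1 1)) * B v f = 0 := by
      linear_combination -(a.1 1 1 - 1) * h1 + a.1 0 1 * h2 - B v f * hdet
    have h4 : (2 - (a.1 0 0 + a.1 1 1)) * B e v = 0 := by
      linear_combination -(a.1 0 0 - 1) * h2 + a.1 1 0 * h1 - B e v * hdet
    exact ⟨(mul_eq_zero.1 h3).resolve_left h0, (mul_eq_zero.1 h4).resolve_left h0⟩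
  · rintro ⟨h1, h2⟩
    rw [emb_apply, h1, h2]
    simp

/-! ### transvections -/

/-- a transvection as an element of the group -/
def TV (hA : B.IsAlt) (u : V) : ↥(Iso (fun u v => B u v)) := ⟨tv B u (hA u), tv_mem hA (fun _ => Iff.rfl) u⟩

theorem TV_apply (hA : B.IsAlt) (u v : V) : (TV hA u).1 v = v + B v u • u := rfl

theorem tv_eq_emb_left (hA : B.IsAlt) (hef : B e f = 1) :
    TV hA e = emb hA hef ⟨!![1, -1; 0, 1], by simp [Matrix.det_fin_two]⟩ := by
  apply Subtype.ext
  apply LinearEquiv.ext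
  intro v
  refine Eq.trans ?_ (emb_apply hA hef _ v).symm
  rw [TV_apply, swap hA v e]
  simp

theorem tv_eq_emb_right (hA : B.IsAlt) (hef : B e f = 1) (c : F) :
    TV hA (c • f) = emb hA hef ⟨!![1, 0; c ^ 2, 1], by simp [Matrix.det_fin_two]⟩ := by
  apply Subtype.ext
  apply LinearEquiv.ext
  intro v
  refine Eq.trans ?_ (emb_apply hA hef _ v).symm
  rw [TV_apply, map_smul, smul_eq_mul]
  simp
  module

theorem TV_conj (hA : B.IsAlt) (g : ↥(Iso (fun u v => B u v))) (u : V) : g * TV hA u * g⁻¹ = TV hA (g.1 u) := by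
  apply Subtype.ext
  apply LinearEquiv.ext
  intro v
  have hi : ∀ v, g.1 ((g⁻¹).1 v) = v := fun v => g.1.apply_symm_apply v
  change g.1 ((TV hA u).1 ((g⁻¹).1 v)) = (TV hA (g.1 u)).1 v
  rw [TV_apply, TV_apply, map_add, map_smul, hi]
  have h1 : B (g.1 ((g⁻¹).1 v)) (g.1 u) = B ((g⁻¹).1 v) u := g.2 _ _
  rw [hi] at h1
  rw [h1]

theorem TV_pow (hA : B.IsAlt) (u v : V) (n : ℕ) : (TV hA u ^ n).1 v = v + (n : F) • B v u • u := by
  induction n with
  | zero => simp
  | succ n ih =>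
    rw [pow_succ']
    change (TV hA u).1 ((TV hA u ^ n).1 v) = _
    rw [ih, TV_apply]
    simp only [map_add, map_smul, LinearMap.add_apply, LinearMap.smul_apply, smul_eq_mul, hA u]
    push_cast
    module

theorem TV_char {r : ℕ} [CharP F r] (hA : B.IsAlt) (u : V) : TV hA u ^ r = 1 := by
  apply Subtype.ext
  apply LinearEquiv.ext
  intro v
  rw [TV_pow, CharP.cast_eq_zero, zero_smul, add_zero]
  rfl

theorem TV_commute (hA : B.IsAlt) {u w : V} (h : B u w = 0) : Commute (TV hA u) (TV hA w) := by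
  apply Subtype.ext
  apply LinearEquiv.ext
  intro v
  change (TV hA u).1 ((TV hA w).1 v) = (TV hA w).1 ((TV hA u).1 v)
  have h' : B w u = 0 := by rw [swap hA, h, neg_zero]
  rw [TV_apply, TV_apply, TV_apply, TV_apply]
  simp only [map_add, map_smul, LinearMap.add_apply, LinearMap.smul_apply, smul_eq_mul, h, h']
  module

/-- the quotient of two transvections -/
theorem TV_quot [Finite F] {p r : ℕ} [CharP F r] (hp : p.Prime) (hr : r.Prime) (hpr : p ≠ r)
    (hdvd : ¬ p ∣ Nat.card (SpecialLinearGroup (Fin 2) F)) (hA : B.IsAlt) (u w : V) :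
    ∃ N : ℕ, Nat.Coprime p N ∧ (TV hA u * (TV hA w)⁻¹) ^ N = 1 := by
  by_cases h : B u w = 0
  · refine ⟨r, (Nat.coprime_primes hp hr).2 hpr, ?_⟩
    rw [(TV_commute hA h).inv_right.mul_pow, inv_pow, TV_char, TV_char, inv_one, mul_one]
  · refine ⟨Nat.card (SpecialLinearGroup (Fin 2) F), (Nat.Prime.coprime_iff_not_dvd hp).2 hdvd, ?_⟩
    have hef : B u ((B u w)⁻¹ • w) = 1 := by
      rw [map_smul, smul_eq_mul, inv_mul_cancel₀ h]
    obtain ⟨a, h1⟩ : ∃ a, TV hA u = emb hA hef a := ⟨_, tv_eq_emb_left hA hef⟩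
    obtain ⟨b, h2⟩ : ∃ b, TV hA (B u w • (B u w)⁻¹ • w) = emb hA hef b := ⟨_, tv_eq_emb_right hA hef (B u w)⟩
    have h3 : B u w • (B u w)⁻¹ • w = w := by rw [smul_smul, mul_inv_cancel₀ h, one_smul]
    have h4 : TV hA (B u w • (B u w)⁻¹ • w) = TV hA w := congrArg (TV hA) h3
    rw [h4] at h2
    rw [h2, h1]
    have h5 : (a * b⁻¹) ^ Nat.card (SpecialLinearGroup (Fin 2) F) = 1 := pow_card_eq_one'
    rw [← map_inv (emb hA hef) b, ← map_mul (emb hA hef) a, ← map_pow (emb hA hef), h5, map_one]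

/-- **`p` prime to `q (q² - 1)`** -/
theorem nb_tv [Finite F] [Finite V] [Nontrivial V] {p r : ℕ} [Fact p.Prime] [CharP F r] (hr : r.Prime) (hpr : p ≠ r)
    (hdvd : ¬ p ∣ Nat.card (SpecialLinearGroup (Fin 2) F)) (hA : B.IsAlt) (hnd : ∀ u, (∀ v, B u v = 0) → u = 0) :
    NB p (↥(Iso (fun u v => B u v)) ⧸ center ↥(Iso (fun u v => B u v))) := by
  have hp : p.Prime := Fact.out
  have hf0 : Finite (V ≃ₗ[F] V) := Finite.of_injective (fun h : V ≃ₗ[F] V => (h : V → V)) DFunLike.coe_injective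
  set Γ := Iso (fun u v => B u v) with hΓd
  set π := QuotientGroup.mk' (center ↥Γ) with hπ
  obtain ⟨u, hu⟩ := exists_ne (0 : V)
  have hcop : ∀ y : ↥Γ ⧸ center ↥Γ, ∀ N : ℕ, Nat.Coprime p N → y ^ N = 1 → ∀ j : ℕ, y ^ p ^ j = 1 → y = 1 := by
    intro y N hN h1 j h2
    have h3 := Nat.dvd_gcd (orderOf_dvd_of_pow_eq_one h1) (orderOf_dvd_of_pow_eq_one h2)
    have h4 : Nat.gcd N (p ^ j) = 1 := (Nat.Coprime.pow_left j hN).symm
    rw [h4] at h3
    exact orderOf_eq_one_iff.1 (Nat.dvd_one.1 h3)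
  refine NB.of_unique (K := {y | ∃ w : V, y = π (TV hA w)}) ?_ (g := π (TV hA u)) ?_ ⟨u, rfl⟩ ?_
  · rintro g _ ⟨w, rfl⟩
    obtain ⟨g, rfl⟩ := QuotientGroup.mk'_surjective (center ↥Γ) g
    exact ⟨g.1 w, by rw [← TV_conj, map_mul, map_mul, map_inv]⟩
  · rintro ⟨j, hj⟩
    have h1 : π (TV hA u) = 1 :=
      hcop _ r ((Nat.coprime_primes hp hr).2 hpr) (by rw [← map_pow, TV_char, map_one]) j hj
    have h2 : TV hA u ∈ center ↥Γ := (QuotientGroup.eq_one_iff _).1 h1
    exact tv_not_mem_center hA hnd (fun _ => Iff.rfl) hu h2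
  · rintro _ ⟨w, rfl⟩ j hj
    obtain ⟨N, hN, h1⟩ := TV_quot hp hr hpr hdvd hA u w
    have h2 := hcop _ N hN (by rw [← map_inv, ← map_mul, ← map_pow, h1, map_one]) j hj
    exact (mul_inv_eq_one.1 h2).symm

/-- **`p ∣ q² - 1`**: the step -/
theorem nb_gamma [Finite F] [FiniteDimensional F V] {p r : ℕ} [Fact p.Prime] [CharP F r] (hr : r.Prime) (h2 : p ≠ 2)
    (hpr : p ≠ r) (hdvd : p ∣ Nat.card (SpecialLinearGroup (Fin 2) F))
    (hA : B.IsAlt) (hnd : ∀ u, (∀ v, B u v = 0) → u = 0)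
    {n : ℕ} (hn : 1 ≤ n) (hdim : Module.finrank F V = 2 * (n + 1))
    (hnb : NB p ↥(Matrix.symplecticGroup (Fin n) F)) :
    NB p (↥(Iso (fun u v => B u v)) ⧸ center ↥(Iso (fun u v => B u v))) := by
  have hp : p.Prime := Fact.out
  have hVf : Finite V := Module.finite_of_finite F
  have hf0 : Finite (V ≃ₗ[F] V) := Finite.of_injective (fun h : V ≃ₗ[F] V => (h : V → V)) DFunLike.coe_injective
  set Γ := Iso (fun u v => B u v) with hΓd
  have hΓ : ∀ h : V ≃ₗ[F] V, h ∈ Γ ↔ ∀ u v, B (h u) (h v) = B u v := fun _ => Iff.rfl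
  have hnt : Nontrivial V := by
    apply Module.nontrivial_of_finrank_pos (R := F)
    omega
  -- the centre has exponent two
  have hz2 : ∀ z ∈ center ↥Γ, z ^ 2 = 1 := by
    intro z hz
    obtain ⟨k, e, he⟩ := exists_coords hA hnd
    obtain ⟨g⟩ := nonempty_symp e he
    have h3 : g.symm z ∈ center ↥(Matrix.symplecticGroup (Fin k) F) := by
      rw [mem_center_iff]
      intro y
      apply g.injective
      rw [map_mul, map_mul, g.apply_symm_apply]
      exact mem_center_iff.1 hz _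
    have h4 := sq_center h3
    rw [← map_pow] at h4
    have h5 := congrArg g h4
    rwa [g.apply_symm_apply, map_one] at h5
  -- a hyperbolic pair
  obtain ⟨e, he0⟩ := exists_ne (0 : V)
  obtain ⟨f, hef⟩ : ∃ f, B e f = 1 := by
    obtain ⟨w, hw⟩ := exists_ne_sp hA hnd he0
    rw [swap hA] at hw
    refine ⟨(B e w)⁻¹ • w, ?_⟩
    rw [map_smul, smul_eq_mul]
    exact inv_mul_cancel₀ (fun h => hw (by rw [h, neg_zero]))
  obtain ⟨a, ha⟩ := exists_prime_orderOf_dvd_card' p hdvd
  have htr := trace_ne_two hp hr hpr ha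
  set X : ↥Γ := emb hA hef a with hX
  have hXp : X ^ p = 1 := by
    rw [hX, ← map_pow, ← ha, pow_orderOf_eq_one, map_one]
  set A := pl F e f with hAd
  set W := B.orthogonal A with hWd
  have hc : IsCompl A W := isCompl_pl hA hef
  have hAW : ∀ a ∈ A, ∀ w ∈ W, B a w = 0 := fun a ha w hw => hw a ha
  have hmW : ∀ v, v ∈ W ↔ B v f = 0 ∧ B e v = 0 := fun v => mem_orth_pl hA v
  have hdW : Module.finrank F W = 2 * n := by
    have h1 := Submodule.finrank_add_eq_of_isCompl hc
    rw [finrank_pl hA hef, hdim] at h1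
    omega
  have hWx : ∀ v, v ∈ W ↔ X.1 v = v := fun v => by rw [hmW, hX, emb_fix hA hef htr]
  have hxA : ∀ v ∈ A, X.1 v ∈ A := by
    intro v hv
    have he : e ∈ A := Submodule.subset_span (by simp)
    have hf : f ∈ A := Submodule.subset_span (by simp)
    rw [hX, emb_apply]
    exact A.add_mem (A.add_mem hv (A.smul_mem _ he)) (A.smul_mem _ hf)
  set π := QuotientGroup.mk' (center ↥Γ) with hπ
  -- the centralizer of `x` modulo the centre
  have hcent : ∀ g : ↥Γ, π g * π X = π X * π g → ∀ v, g.1 (X.1 v) = X.1 (g.1 v) := by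
    intro g hg
    rw [← map_mul, ← map_mul] at hg
    have h3 : (X * g)⁻¹ * (g * X) ∈ center ↥Γ := QuotientGroup.eq.1 hg.symm
    set z := (X * g)⁻¹ * (g * X) with hz
    have h4 : g * X = X * g * z := by rw [hz]; group
    have h5 : g * X * g⁻¹ = X * z := by
      rw [h4, mul_assoc, ← mem_center_iff.1 h3, ← mul_assoc]
      group
    have h6 : z ^ p = 1 := by
      have h7 : (g * X * g⁻¹) ^ p = (X * z) ^ p := by rw [h5]
      rw [conj_pow, hXp, mul_one, mul_inv_cancel] at h7
      have h8 : Commute X z := mem_center_iff.1 h3 X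
      rw [h8.mul_pow, hXp, one_mul] at h7
      exact h7.symm
    have h7 : z = 1 := by
      have h8 := Nat.dvd_gcd (orderOf_dvd_of_pow_eq_one h6) (orderOf_dvd_of_pow_eq_one (hz2 z h3))
      have h9 : Nat.gcd p 2 = 1 := (Nat.coprime_primes hp Nat.prime_two).2 h2
      rw [h9] at h8
      exact orderOf_eq_one_iff.1 (Nat.dvd_one.1 h8)
    intro v
    rw [h7, mul_one] at h4
    exact LinearEquiv.congr_fun (congrArg Subtype.val h4) v
  -- the subgroup
  let K : Subgroup (↥Γ ⧸ center ↥Γ) := (FixW Γ A W).map π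
  have hnbK : NB p K := by
    obtain ⟨φ⟩ := nonempty_fixW hA hnd hc hAW hdW
    have h3 : Function.Injective (π.comp (FixW Γ A W).subtype) := by
      rw [← MonoidHom.ker_eq_bot_iff, eq_bot_iff]
      intro h hh
      have h4 : (h : ↥Γ) ∈ center ↥Γ := (QuotientGroup.eq_one_iff _).1 (MonoidHom.mem_ker.1 hh)
      rw [mem_bot]
      apply Subtype.ext
      exact eq_one_of_center_fix hA hnd hΓ h4 he0 (h.2.1 e (Submodule.subset_span (by simp)))
    have h4 : (π.comp (FixW Γ A W).subtype).range = K := by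
      rw [MonoidHom.range_comp, range_subtype]
    have e1 : ↥(Matrix.symplecticGroup (Fin n) F) ≃* K :=
      (φ.trans (MonoidHom.ofInjective h3)).trans (MulEquiv.subgroupCongr h4)
    exact NB.iso e1 hnb
  have hmem : ∀ c ∈ centralizer ((Subgroup.zpowers (π X) : Subgroup (↥Γ ⧸ center ↥Γ)) : Set (↥Γ ⧸ center ↥Γ)),
      c * π X = π X * c := fun c hc => (mem_centralizer_iff.1 hc _ (mem_zpowers _)).symm
  refine NB.of_simple_le (Subgroup.zpowers (π X)) ?_ K ?_ ?_ hnbK
  · have h3 : (π X) ^ p ^ 1 = 1 := by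
      rw [pow_one, ← map_pow, hXp, map_one]
    rintro ⟨y, hy⟩
    obtain ⟨i, rfl⟩ := Subgroup.mem_zpowers_iff.1 hy
    refine ⟨1, Subtype.ext ?_⟩
    change ((π X) ^ i) ^ p ^ 1 = 1
    rw [← zpow_natCast, ← _root_.zpow_mul, mul_comm, _root_.zpow_mul, zpow_natCast, h3, _root_.one_zpow]
  · rintro _ ⟨k, hk, rfl⟩
    rw [mem_centralizer_iff]
    have h3 : X * k = k * X := by
      apply Subtype.ext
      apply LinearEquiv.ext
      intro v
      refine ext_of_isCompl hc (a := (X * k).1.toLinearMap) (b := (k * X).1.toLinearMap) ?_ ?_ v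
      · intro w hw
        change X.1 (k.1 w) = k.1 (X.1 w)
        rw [hk.1 w hw, hk.1 _ (hxA w hw)]
      · intro w hw
        change X.1 (k.1 w) = k.1 (X.1 w)
        rw [(hWx w).1 hw]
        exact (hWx _).1 ((hk.2 w).2 hw)
    have h4 : Commute (π X) (π k) := by
      change π X * π k = π k * π X
      rw [← map_mul, h3, map_mul]
    rintro y hy
    obtain ⟨i, rfl⟩ := Subgroup.mem_zpowers_iff.1 hy
    exact (h4.zpow_left i).eq
  · rintro c hc' _ ⟨k, hk, rfl⟩
    obtain ⟨g, rfl⟩ := QuotientGroup.mk'_surjective (center ↥Γ) c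
    have h3 := hcent g (hmem _ hc')
    have hgW : ∀ v, g.1 v ∈ W ↔ v ∈ W := by
      intro v
      rw [hWx, hWx, ← h3, g.1.injective.eq_iff]
    have hgA : ∀ v ∈ A, (g⁻¹).1 v ∈ A := by
      intro v hv
      obtain ⟨a, ha, w, hw, haw⟩ := Submodule.mem_sup.1
        (show (g⁻¹).1 v ∈ A ⊔ W by rw [hc.sup_eq_top]; exact Submodule.mem_top)
      have hw0 : w = 0 := by
        apply hnd
        intro u
        obtain ⟨s, hs, t, ht, rfl⟩ := Submodule.mem_sup.1
          (show u ∈ A ⊔ W by rw [hc.sup_eq_top]; exact Submodule.mem_top)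
        have h4 : B ((g⁻¹).1 v) t = 0 := by
          rw [← (hΓ g.1).1 g.2]
          have : g.1 ((g⁻¹).1 v) = v := g.1.apply_symm_apply v
          rw [this]
          exact hAW v hv _ ((hgW t).2 ht)
        rw [map_add, swap hA w s, hAW s hs w hw, neg_zero, zero_add]
        rw [← haw, map_add, LinearMap.add_apply, hAW a ha t ht, zero_add] at h4
        exact h4
      rw [← haw, hw0, add_zero]
      exact ha
    refine ⟨g * k * g⁻¹, ?_, by rw [map_mul, map_mul, map_inv]⟩
    have hi : ∀ v, g.1 ((g⁻¹).1 v) = v := fun v => g.1.apply_symm_apply v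
    refine ⟨fun v hv => ?_, fun v => ?_⟩
    · change g.1 (k.1 ((g⁻¹).1 v)) = v
      rw [hk.1 _ (hgA v hv), hi]
    · change g.1 (k.1 ((g⁻¹).1 v)) ∈ W ↔ v ∈ W
      rw [hgW, hk.2, ← hgW, hi]

end Main

section

variable {F : Type} [Field F] [Fintype F] {p r : ℕ} [Fact p.Prime] [CharP F r]

theorem nontrivial_fun (n : ℕ) : Nontrivial (Fin (n + 1) ⊕ Fin (n + 1) → F) := inferInstance

theorem nb_tv' (hr : r.Prime) (hpr : p ≠ r) (hdvd : ¬ p ∣ Nat.card (SpecialLinearGroup (Fin 2) F)) {n : ℕ}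
    (hn : 1 ≤ n) : NB p (Cfsg.PSp n F) := by
  obtain ⟨n, rfl⟩ := Nat.exists_eq_add_of_le' hn
  obtain ⟨e⟩ := nonempty_symp (B := sympBilin (n + 1) F) (LinearEquiv.refl F _) (fun _ _ => rfl)
  have h3 := nb_tv (B := sympBilin (n + 1) F) hr hpr hdvd sympBilin_isAlt
    (fun u hu => eq_zero_of_forall_sympForm_right hu)
  exact NB.iso (quotientCenterCongr e).symm h3

theorem nb_succ (hr : r.Prime) (h2 : p ≠ 2) (hpr : p ≠ r) (hdvd : p ∣ Nat.card (SpecialLinearGroup (Fin 2) F)) {n : ℕ}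
    (hn : 1 ≤ n) (hnb : NB p ↥(Matrix.symplecticGroup (Fin n) F)) : NB p (Cfsg.PSp (n + 1) F) := by
  obtain ⟨e⟩ := nonempty_symp (B := sympBilin (n + 1) F) (LinearEquiv.refl F _) (fun _ _ => rfl)
  have h3 := nb_gamma (B := sympBilin (n + 1) F) hr h2 hpr hdvd sympBilin_isAlt
    (fun u hu => eq_zero_of_forall_sympForm_right hu) hn (by
      rw [Module.finrank_fintype_fun_eq_card, Fintype.card_sum, Fintype.card_fin]
      ring) hnb
  exact NB.iso (quotientCenterCongr e).symm h3

theorem nb_sp {n : ℕ} (hnb : NB p (Cfsg.PSp n F)) : NB p ↥(Matrix.symplecticGroup (Fin n) F) := by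
  refine NB.of_surjective (QuotientGroup.mk' (center ↥(Matrix.symplecticGroup (Fin n) F)))
    (QuotientGroup.mk'_surjective _) ?_ hnb
  rw [QuotientGroup.ker_mk']

/-! ### orders -/

theorem card_succ (F : Type) [Field F] [Fintype F] (m : ℕ) :
    6 * Nat.card (Matrix.symplecticGroup (Fin m) F) ≤ Nat.card (Matrix.symplecticGroup (Fin (m + 1)) F) := by
  have hq : 2 ≤ Fintype.card F := Fintype.one_lt_card
  rw [LieClassical.SympCount.card_symplecticGroup, LieClassical.SympCount.card_symplecticGroup,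
      Finset.prod_range_succ]
  have h1 : 2 ^ 1 ≤ Fintype.card F ^ (2 * m + 1) :=
    (Nat.pow_le_pow_right (by norm_num) (by omega)).trans (Nat.pow_le_pow_left hq _)
  have h2 : 3 ≤ Fintype.card F ^ (2 * (m + 1)) - 1 := by
    have : 2 ^ 2 ≤ Fintype.card F ^ (2 * (m + 1)) :=
      (Nat.pow_le_pow_right (by norm_num) (by omega)).trans (Nat.pow_le_pow_left hq _)
    omega
  calc _ = (Fintype.card F ^ m ^ 2 * ∏ i ∈ Finset.range m, (Fintype.card F ^ (2 * (i + 1)) - 1)) * (2 ^ 1 * 3) := by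
        ring
    _ ≤ (Fintype.card F ^ m ^ 2 * ∏ i ∈ Finset.range m, (Fintype.card F ^ (2 * (i + 1)) - 1)) *
        (Fintype.card F ^ (2 * m + 1) * (Fintype.card F ^ (2 * (m + 1)) - 1)) :=
        Nat.mul_le_mul_left _ (Nat.mul_le_mul h1 h2)
    _ = _ := by
        rw [show (m + 1) ^ 2 = m ^ 2 + (2 * m + 1) by ring, pow_add]
        ring

theorem card_mono (F : Type) [Field F] [Fintype F] {m n : ℕ} (h : m ≤ n) :
    Nat.card (Matrix.symplecticGroup (Fin m) F) ≤ Nat.card (Matrix.symplecticGroup (Fin n) F) := by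
  have hm : Monotone fun m => Nat.card (Matrix.symplecticGroup (Fin m) F) := by
    apply monotone_nat_of_le_succ
    intro m
    have := card_succ F m
    change Nat.card (Matrix.symplecticGroup (Fin m) F) ≤ Nat.card (Matrix.symplecticGroup (Fin (m + 1)) F)
    omega
  exact hm h

theorem card_psp_lt {F : Type} [Field F] [Fintype F] {N m : ℕ} (hm : 1 ≤ m)
    (h : 2 * N < Nat.card (Matrix.symplecticGroup (Fin m) F)) : N < Nat.card (Cfsg.PSp m F) := by
  have h1 := Subgroup.card_mul_index (Subgroup.center ↥(Matrix.symplecticGroup (Fin m) F))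
  rw [LieClassical.SympCenter.card_center hm] at h1
  have h2 : Nat.gcd 2 (Fintype.card F - 1) ≤ 2 := Nat.gcd_le_left _ (by norm_num)
  change _ * Nat.card (Cfsg.PSp m F) = _ at h1
  rw [← h1] at h
  have h3 := Nat.mul_le_mul_right (Nat.card (Cfsg.PSp m F)) h2
  omega

theorem card_psp_le (F : Type) [Field F] [Fintype F] (m : ℕ) :
    Nat.card (Cfsg.PSp m F) ≤ Nat.card (Cfsg.PSp (m + 1) F) := by
  have h0 : Nat.card (Cfsg.PSp m F) ≤ Nat.card (Matrix.symplecticGroup (Fin m) F) :=
    Nat.card_le_card_of_surjective _ (QuotientGroup.mk'_surjective (center (Matrix.symplecticGroup (Fin m) F)))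
  have h1 := card_succ F m
  have h2 : 0 < Nat.card (Matrix.symplecticGroup (Fin m) F) := Nat.card_pos
  exact (card_psp_lt (by omega) (by omega)).le

theorem card_sl_two (F : Type) [Field F] [Fintype F] :
    Nat.card (SpecialLinearGroup (Fin 2) F) = Fintype.card F * (Fintype.card F ^ 2 - 1) := by
  rw [← Nat.card_congr (Cfsg.Agent.H454.SpExt.spTwo F).toEquiv, LieClassical.SympCount.card_symplecticGroup]
  simp

theorem psl_lt (F : Type) [Field F] [Fintype F] {m : ℕ} (hm : 2 ≤ m) :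
    Nat.card (Matrix.ProjectiveSpecialLinearGroup (Fin 2) F) < Nat.card (Cfsg.PSp m F) := by
  have hq : 2 ≤ Fintype.card F := Fintype.one_lt_card
  have h0 : Nat.card (Matrix.ProjectiveSpecialLinearGroup (Fin 2) F) ≤ Nat.card (SpecialLinearGroup (Fin 2) F) :=
    Nat.card_le_card_of_surjective _ (QuotientGroup.mk'_surjective (center (SpecialLinearGroup (Fin 2) F)))
  refine lt_of_le_of_lt h0 (card_psp_lt (by omega) (lt_of_lt_of_le ?_ (card_mono F hm)))
  rw [card_sl_two, LieClassical.SympCount.card_symplecticGroup]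
  simp only [Finset.prod_range_succ, Finset.prod_range_zero, one_mul, zero_add, mul_one]
  generalize Fintype.card F = q at *
  have h1 : 1 ≤ q ^ 2 - 1 := by
    have : 2 ^ 2 ≤ q ^ 2 := Nat.pow_le_pow_left hq 2
    omega
  have h2 : 15 ≤ q ^ 4 - 1 := by
    have : 2 ^ 4 ≤ q ^ 4 := Nat.pow_le_pow_left hq 4
    omega
  have h3 : q ^ 1 ≤ q ^ 4 := Nat.pow_le_pow_right (by omega) (by omega)
  calc 2 * (q * (q ^ 2 - 1)) < (q * (q ^ 2 - 1)) * 15 := by
        have : 0 < q * (q ^ 2 - 1) := Nat.mul_pos (by omega) h1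
        omega
    _ ≤ (q ^ 4 * (q ^ 2 - 1)) * (q ^ 4 - 1) := by
        refine Nat.mul_le_mul (Nat.mul_le_mul_right _ ?_) h2
        simpa using h3
    _ = q ^ 2 ^ 2 * ((q ^ 2 - 1) * (q ^ (2 * (1 + 1)) - 1)) := by
        rw [mul_assoc]
        norm_num

theorem card_alt_six : Nat.card (alternatingGroup (Fin 6)) = 360 := by
  have : Nontrivial (Fin 6) := Fin.nontrivial_iff_two_le.2 (by norm_num)
  have h : 2 * Nat.card (alternatingGroup (Fin 6)) = 720 := by
    rw [Nat.card_eq_fintype_card, two_mul_card_alternatingGroup, Fintype.card_perm, Fintype.card_fin]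
    rfl
  omega

theorem alt_lt {F : Type} [Field F] [Fintype F] (hF : Fintype.card F = 2) {m : ℕ} (hm : 3 ≤ m) :
    Nat.card (alternatingGroup (Fin 6)) < Nat.card (Cfsg.PSp m F) := by
  refine card_psp_lt (by omega) (lt_of_lt_of_le ?_ (card_mono F hm))
  rw [card_alt_six, LieClassical.SympCount.card_symplecticGroup, hF]
  simp [Finset.prod_range_succ]

theorem not_comm_six : ¬ IsMulCommutative (alternatingGroup (Fin 6)) := by
  intro h
  have hs : IsSimpleGroup (alternatingGroup (Fin 6)) := alternatingGroup.isSimpleGroup (by simp)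
  let _ : CommGroup (alternatingGroup (Fin 6)) :=
    { (inferInstance : Group (alternatingGroup (Fin 6))) with mul_comm := h.is_comm.comm }
  have hp : (Nat.card (alternatingGroup (Fin 6))).Prime := IsSimpleGroup.prime_card
  rw [card_alt_six] at hp
  norm_num at hp

end

open Cfsg.Agent.H718.NBIH in
/-- the row for `PSp m F`, characteristic `r ≠ p` -/
theorem nb_cross {F : Type} [Field F] [Fintype F] {p r : ℕ} [Fact p.Prime] [CharP F r] (hr : r.Prime) (h2 : p ≠ 2)
    (hpr : p ≠ r) {m : ℕ} (hm : 2 ≤ m) (hm2 : m = 2 → 3 ≤ Fintype.card F) (ih : IH p (Nat.card (Cfsg.PSp m F))) :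
    NB p (Cfsg.PSp m F) := by
  have hp : p.Prime := Fact.out
  by_cases hdvd : p ∣ Nat.card (SpecialLinearGroup (Fin 2) F)
  swap
  · exact nb_tv' hr hpr hdvd (by omega)
  have hq : 2 ≤ Fintype.card F := Fintype.one_lt_card
  induction m, hm using Nat.le_induction with
  | base =>
    refine nb_succ hr h2 hpr hdvd le_rfl (nb_sp ?_)
    refine NB.iso (LieClassical.FieldTransfer.centralQuotientCongr (Cfsg.Agent.H454.SpExt.spTwo F)).symm ?_
    have h4 : 4 ≤ Fintype.card F := by
      by_contra hcon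
      have h3 : Fintype.card F = 3 := by have := hm2 rfl; omega
      have hr3 : r = 3 := by
        have : Fact r.Prime := ⟨hr⟩
        obtain ⟨n, -, hn⟩ := FiniteField.card F r
        rw [h3] at hn
        exact (Nat.prime_dvd_prime_iff_eq hr Nat.prime_three).1 (by rw [hn]; exact dvd_pow_self r n.ne_zero)
      rw [card_sl_two, h3] at hdvd
      have h5 : p ∣ 2 ^ 3 * 3 := by simpa using hdvd
      rcases hp.dvd_mul.1 h5 with h6 | h6
      · exact h2 ((Nat.prime_dvd_prime_iff_eq hp Nat.prime_two).1 (hp.dvd_of_dvd_pow h6))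
      · exact hpr (by rw [hr3]; exact (Nat.prime_dvd_prime_iff_eq hp Nat.prime_three).1 h6)
    have hs : IsSimpleGroup (Matrix.ProjectiveSpecialLinearGroup (Fin 2) F) :=
      Matrix.ProjectiveSpecialLinearGroup.rank_two_simple (by rw [Nat.card_eq_fintype_card]; omega)
    exact ih.use (H679.TwoPsl.not_comm le_rfl) (psl_lt F le_rfl)
  | succ m hm hi =>
    refine nb_succ hr h2 hpr hdvd (by omega) ?_
    by_cases h3 : m = 2 ∧ Fintype.card F = 2
    · obtain ⟨rfl, hF⟩ := h3
      obtain ⟨e⟩ := LieClassical.SpFourTwo.nonempty_equiv_perm hF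
      refine NB.iso e.symm (NB.of_normal (alternatingGroup (Fin 6)) ?_)
      have hs : IsSimpleGroup (alternatingGroup (Fin 6)) := alternatingGroup.isSimpleGroup (by simp)
      exact ih.use not_comm_six (alt_lt hF le_rfl)
    · refine nb_sp (hi (fun h => by omega) (ih.mono (card_psp_le F m)))

open Cfsg.Agent.H718.NBIH in
/-- **the row `PSp` of S5003** -/
theorem nb_psp {p : ℕ} [Fact p.Prime] (h2 : p ≠ 2) (S : Type) [Group S] [Finite S] [IsSimpleGroup S]
    (h : Cfsg.IsPSp S) (ih : IH p (Nat.card S)) : NB p S := by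
  obtain ⟨F, _, _, m, hm, hm2, ⟨e⟩⟩ := h
  obtain ⟨r, hr⟩ := CharP.exists F
  have hrp : r.Prime := CharP.char_is_prime F r
  by_cases hpr : p = r
  · subst hpr
    exact NB.of_lie (Or.inr (Or.inl ⟨F, _, _, hr, m, hm, hm2, ⟨e⟩⟩))
  · rw [Nat.card_congr e.toEquiv] at ih
    exact NB.iso e.symm (nb_cross hrp h2 hpr hm hm2 ih)

end Cfsg.Agent.H679.NB.Psp
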